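import Mathlib

set_option autoImplicit false
universe u v

open MvPolynomial

namespace Groth.Agent.IrredSpec

variable {n : ℕ}

/-- Exponent vectors of total degree at most `a`. -/
noncomputable def expsLE (n a : ℕ) : Finset (Fin n →₀ ℕ) :=
  ((Finset.univ : Finset (Fin n)).finsupp (fun _ => Finset.range (a + 1))).filter
    (fun ν => ν.sum (fun _ e => e) ≤ a)

lemma mem_expsLE {a : ℕ} {ν : Fin n →₀ ℕ} (h : ν.sum (fun _ e => e) ≤ a) : ν ∈ expsLE n a := by
  classical
  refine Finset.mem_filter.mpr ⟨Finset.mem_finsupp_iff.mpr ⟨Finset.subset_univ _, fun i _ => ?_⟩, h⟩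
  rw [Finset.mem_range]
  have : ν i ≤ ν.sum (fun _ e => e) := by
    rw [Finsupp.sum_fintype _ _ (fun _ => rfl)]
    exact Finset.single_le_sum (f := fun j => ν j) (fun j _ => Nat.zero_le _) (Finset.mem_univ i)
  omega

/-- A polynomial in `Fin n` variables with coefficients prescribed on a finite set of exponents. -/
noncomputable def ofCoeffs {R : Type*} [CommRing R] (M : Finset (Fin n →₀ ℕ))
    (c : M → R) : MvPolynomial (Fin n) R :=
  ∑ ν : M, monomial (ν : Fin n →₀ ℕ) (c ν)

lemma map_ofCoeffs {R S : Type*} [CommRing R] [CommRing S] (φ : R →+* S)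
    (M : Finset (Fin n →₀ ℕ)) (c : M → R) :
    MvPolynomial.map φ (ofCoeffs M c) = ofCoeffs M (fun ν => φ (c ν)) := by
  simp [ofCoeffs, map_sum, MvPolynomial.map_monomial]

lemma ofCoeffs_coeff_of {R : Type*} [CommRing R] {a : ℕ} (g : MvPolynomial (Fin n) R)
    (hg : g.totalDegree ≤ a) :
    ofCoeffs (expsLE n a) (fun ν => g.coeff (ν : Fin n →₀ ℕ)) = g := by
  classical
  rw [ofCoeffs]
  have h := Finset.sum_coe_sort (expsLE n a) (fun ν => monomial ν (g.coeff ν))
  rw [h]
  conv_rhs => rw [g.as_sum]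
  symm
  refine Finset.sum_subset (fun ν hν => mem_expsLE ((MvPolynomial.le_totalDegree hν).trans hg)) ?_
  intro ν _ hν
  rw [MvPolynomial.notMem_support_iff.mp hν, map_zero]

lemma totalDegree_ofCoeffs_le {R : Type*} [CommRing R] {a : ℕ} (c : expsLE n a → R) :
    (ofCoeffs (expsLE n a) c).totalDegree ≤ a := by
  classical
  refine (MvPolynomial.totalDegree_finset_sum _ _).trans (Finset.sup_le fun ν _ => ?_)
  refine (MvPolynomial.totalDegree_monomial_le _ _).trans ?_
  exact (Finset.mem_filter.mp ν.2).2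

lemma isUnit_of_totalDegree_zero {k : Type*} [Field k] {g : MvPolynomial (Fin n) k} (hg : g ≠ 0)
    (h : g.totalDegree = 0) : IsUnit g := by
  rw [MvPolynomial.totalDegree_eq_zero_iff_eq_C] at h
  rw [h]
  refine (Ne.isUnit fun h0 => hg ?_).map MvPolynomial.C
  rw [h, h0, map_zero]

lemma totalDegree_eq_zero_of_isUnit {k : Type*} [Field k] {g : MvPolynomial (Fin n) k}
    (hg : IsUnit g) : g.totalDegree = 0 := by
  obtain ⟨u, rfl⟩ := hg
  have := MvPolynomial.totalDegree_mul_of_isDomain (u.ne_zero) (u⁻¹.ne_zero)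
  rw [← Units.val_mul, mul_inv_cancel, Units.val_one, MvPolynomial.totalDegree_one] at this
  omega

/-- Clearing denominators in Hilbert's Nullstellensatz. -/
lemma exists_C_mem_of_no_zero {A : Type u} [CommRing A] [IsDomain A] {σ : Type v} [Finite σ]
    (I : Ideal (MvPolynomial σ A))
    (h : ∀ x : σ → AlgebraicClosure (FractionRing A),
      ∃ p ∈ I, eval₂ (algebraMap A (AlgebraicClosure (FractionRing A))) x p ≠ 0) :
    ∃ f : A, f ≠ 0 ∧ C f ∈ I := by
  classical
  letI : Algebra (MvPolynomial σ A) (MvPolynomial σ (FractionRing A)) :=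
    (MvPolynomial.map (algebraMap A (FractionRing A))).toAlgebra
  haveI : IsLocalization ((nonZeroDivisors A).map (C : A →+* MvPolynomial σ A))
      (MvPolynomial σ (FractionRing A)) :=
    MvPolynomial.isLocalization _ _
  have htop : I.map (algebraMap (MvPolynomial σ A) (MvPolynomial σ (FractionRing A))) = ⊤ := by
    rw [← Ideal.radical_eq_top, ← MvPolynomial.vanishingIdeal_zeroLocus_eq_radical
      (K := AlgebraicClosure (FractionRing A))]
    rw [eq_top_iff]
    intro q _ x hx
    exfalso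
    obtain ⟨p, hp, hne⟩ := h x
    apply hne
    have := hx _ (Ideal.mem_map_of_mem _ hp)
    rw [RingHom.algebraMap_toAlgebra] at this
    rw [aeval_def, eval₂_map, ← IsScalarTower.algebraMap_eq] at this
    exact this
  by_contra hcon
  push_neg at hcon
  refine (IsLocalization.map_algebraMap_ne_top_iff_disjoint
    ((nonZeroDivisors A).map (C : A →+* MvPolynomial σ A))
    (MvPolynomial σ (FractionRing A)) I).mpr ?_ htop
  rw [Set.disjoint_left]
  rintro _ ⟨f, hf, rfl⟩ hfI
  exact hcon f (nonZeroDivisors.ne_zero hf) hfI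

/-- Generic non-factorisation in given degrees. -/
lemma exists_ne_zero_forall_not_factor {A : Type u} [CommRing A] [IsDomain A]
    (P : MvPolynomial (Fin n) A) (a b : ℕ)
    (hP : ∀ g h : MvPolynomial (Fin n) (AlgebraicClosure (FractionRing A)),
      g.totalDegree ≤ a → h.totalDegree ≤ b →
      MvPolynomial.map (algebraMap A (AlgebraicClosure (FractionRing A))) P ≠ g * h) :
    ∃ f : A, f ≠ 0 ∧ ∀ (κ : Type u) [Field κ] (ψ : A →+* κ), ψ f ≠ 0 →
      ∀ g h : MvPolynomial (Fin n) κ, g.totalDegree ≤ a → h.totalDegree ≤ b →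
        MvPolynomial.map ψ P ≠ g * h := by
  classical
  let G : MvPolynomial (Fin n) (MvPolynomial (↥(expsLE n a) ⊕ ↥(expsLE n b)) A) :=
    ofCoeffs (expsLE n a) (fun ν => X (Sum.inl ν))
  let H : MvPolynomial (Fin n) (MvPolynomial (↥(expsLE n a) ⊕ ↥(expsLE n b)) A) :=
    ofCoeffs (expsLE n b) (fun ν => X (Sum.inr ν))
  let Q := G * H - MvPolynomial.map C P
  let I : Ideal (MvPolynomial (↥(expsLE n a) ⊕ ↥(expsLE n b)) A) :=
    Ideal.span (Set.range fun μ => Q.coeff μ)
  have hev : ∀ (κ : Type u) [CommRing κ] (ψ : A →+* κ)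
      (x : ↥(expsLE n a) ⊕ ↥(expsLE n b) → κ),
      MvPolynomial.map (eval₂Hom ψ x) Q =
        ofCoeffs (expsLE n a) (fun ν => x (Sum.inl ν)) *
          ofCoeffs (expsLE n b) (fun ν => x (Sum.inr ν)) - MvPolynomial.map ψ P := by
    intro κ _ ψ x
    have hC : (eval₂Hom ψ x).comp C = ψ := RingHom.ext fun r => by simp
    simp only [Q, G, H, map_sub, map_mul, map_ofCoeffs, coe_eval₂Hom, eval₂_X,
      MvPolynomial.map_map, hC]
  obtain ⟨f, hf, hfI⟩ := exists_C_mem_of_no_zero I (by
    intro x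
    by_contra hcon
    push_neg at hcon
    have h0 : MvPolynomial.map (eval₂Hom (algebraMap A _) x) Q = 0 := by
      ext μ
      rw [coeff_map, coeff_zero]
      exact hcon _ (Ideal.subset_span ⟨μ, rfl⟩)
    rw [hev, sub_eq_zero] at h0
    exact hP _ _ (totalDegree_ofCoeffs_le _) (totalDegree_ofCoeffs_le _) h0.symm)
  refine ⟨f, hf, fun κ _ ψ hψ g h hg hh heq => hψ ?_⟩
  let x : ↥(expsLE n a) ⊕ ↥(expsLE n b) → κ :=
    Sum.elim (fun ν => g.coeff (ν : Fin n →₀ ℕ)) (fun ν => h.coeff (ν : Fin n →₀ ℕ))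
  have h0 : MvPolynomial.map (eval₂Hom ψ x) Q = 0 := by
    rw [hev]
    simp only [x, Sum.elim_inl, Sum.elim_inr, ofCoeffs_coeff_of g hg, ofCoeffs_coeff_of h hh]
    rw [heq, sub_self]
  have hle : I ≤ RingHom.ker (eval₂Hom ψ x) := by
    rw [Ideal.span_le]
    rintro _ ⟨μ, rfl⟩
    show eval₂Hom ψ x (Q.coeff μ) = 0
    rw [← coeff_map, h0, coeff_zero]
  have := hle hfI
  rwa [RingHom.mem_ker, eval₂Hom_C] at this

/-- Irreducible specializations. -/
theorem exists_ne_zero_forall_irreducible {A : Type u} [CommRing A] [IsDomain A]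
    (P : MvPolynomial (Fin n) A)
    (hP : Irreducible (MvPolynomial.map (algebraMap A (AlgebraicClosure (FractionRing A))) P)) :
    ∃ f : A, f ≠ 0 ∧ ∀ (κ : Type u) [Field κ] (ψ : A →+* κ), ψ f ≠ 0 →
      Irreducible (MvPolynomial.map ψ P) := by
  classical
  set K := AlgebraicClosure (FractionRing A)
  have hinj : Function.Injective (algebraMap A K) := by
    rw [IsScalarTower.algebraMap_eq A (FractionRing A) K]
    exact (algebraMap (FractionRing A) K).injective.comp (IsFractionRing.injective A _)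
  set d := P.totalDegree with hd
  have hdK : (MvPolynomial.map (algebraMap A K) P).totalDegree = d := by
    rw [hd, MvPolynomial.totalDegree, MvPolynomial.totalDegree,
      MvPolynomial.support_map_of_injective _ hinj]
  have hP0 : P ≠ 0 := fun h => hP.ne_zero (by rw [h, map_zero])
  have hd1 : 1 ≤ d := by
    by_contra hlt
    exact hP.not_isUnit (isUnit_of_totalDegree_zero hP.ne_zero (by rw [hdK]; omega))
  obtain ⟨μ, hμ, hμd⟩ := Finset.exists_mem_eq_sup P.support
    (MvPolynomial.support_nonempty.mpr hP0) (fun s => s.sum fun _ e => e)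
  have hμd : (μ.sum fun _ e => e) = d := hμd.symm
  have key : ∀ a : ℕ, ∃ f : A, f ≠ 0 ∧ (1 ≤ a → a + 1 ≤ d →
      ∀ (κ : Type u) [Field κ] (ψ : A →+* κ), ψ f ≠ 0 →
        ∀ g h : MvPolynomial (Fin n) κ, g.totalDegree ≤ a → h.totalDegree ≤ d - a →
          MvPolynomial.map ψ P ≠ g * h) := by
    intro a
    by_cases ha : 1 ≤ a ∧ a + 1 ≤ d
    · obtain ⟨f, hf, hfac⟩ := exists_ne_zero_forall_not_factor P a (d - a) (by
        intro g h hg hh heq
        have hg0 : g ≠ 0 := fun h0 => hP.ne_zero (by rw [heq, h0, zero_mul])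
        have hh0 : h ≠ 0 := fun h0 => hP.ne_zero (by rw [heq, h0, mul_zero])
        have hdeg := MvPolynomial.totalDegree_mul_of_isDomain hg0 hh0
        rw [← heq, hdK] at hdeg
        rcases hP.isUnit_or_isUnit heq with hu | hu
        · have := totalDegree_eq_zero_of_isUnit hu; omega
        · have := totalDegree_eq_zero_of_isUnit hu; omega)
      exact ⟨f, hf, fun _ _ => hfac⟩
    · exact ⟨1, one_ne_zero, fun h1 h2 => absurd ⟨h1, h2⟩ ha⟩
  choose fa hfa0 hfa using key
  refine ⟨P.coeff μ * ∏ a ∈ Finset.range d, fa a,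
    mul_ne_zero (MvPolynomial.mem_support_iff.mp hμ)
      (Finset.prod_ne_zero_iff.mpr fun a _ => hfa0 a), ?_⟩
  intro κ _ ψ hψ
  rw [map_mul, map_prod] at hψ
  obtain ⟨hc, hprod⟩ := mul_ne_zero_iff.mp hψ
  have hprod' := Finset.prod_ne_zero_iff.mp hprod
  set q := MvPolynomial.map ψ P
  have hμq : μ ∈ q.support := by
    rw [MvPolynomial.mem_support_iff, coeff_map]; exact hc
  have hq0 : q ≠ 0 := MvPolynomial.support_nonempty.mp ⟨μ, hμq⟩
  have hqd : q.totalDegree = d :=
    le_antisymm (Finset.sup_mono (MvPolynomial.support_map_subset ψ P))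
      (hμd ▸ MvPolynomial.le_totalDegree hμq)
  refine ⟨fun hu => ?_, fun g h hgh => ?_⟩
  · have := totalDegree_eq_zero_of_isUnit hu; omega
  · by_contra hcon
    push_neg at hcon
    have hg0 : g ≠ 0 := fun h0 => hq0 (by rw [hgh, h0, zero_mul])
    have hh0 : h ≠ 0 := fun h0 => hq0 (by rw [hgh, h0, mul_zero])
    have hdeg := MvPolynomial.totalDegree_mul_of_isDomain hg0 hh0
    rw [← hgh, hqd] at hdeg
    have hg1 : 1 ≤ g.totalDegree := by
      by_contra hlt; exact hcon.1 (isUnit_of_totalDegree_zero hg0 (by omega))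
    have hh1 : 1 ≤ h.totalDegree := by
      by_contra hlt; exact hcon.2 (isUnit_of_totalDegree_zero hh0 (by omega))
    exact hfa g.totalDegree hg1 (by omega) κ ψ
      (hprod' _ (Finset.mem_range.mpr (by omega))) g h le_rfl (by omega) hgh

end Groth.Agent.IrredSpec
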